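import Groth.Agent.CurvOpenLib.KoszSpace
import Groth.Agent.KoszAtLib.PrecompMor
import Groth.Agent.AlgStLib.SmST
import Groth.Agent.AlgStLib.LocQ5
import Groth.Agent.S0115

/-! Local complete intersection morphisms are smooth local on source and target. -/

set_option autoImplicit false
set_option linter.all false
set_option backward.isDefEq.respectTransparency false
set_option backward.isDefEq.respectTransparency.types false

noncomputable section

universe u

open CategoryTheory CategoryTheory.Limits AlgebraicGeometry Opposite AlgSp FibCat FibLib AlgSpLib AlgStLib KoszAtLib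

namespace LciStLib

variable {S : Scheme.{u}}

lemma isLCIMor_eq : (IsLCIMor : MorphismProperty (Sp S)) = LocP LCIMor := by
  have : (AlgSp.lci : MorphismProperty Scheme.{u}) = LCIMor := by
    funext X Y g
    exact propext (forall_isKoszulAt_iff g)
  show LocP AlgSp.lci = _
  rw [this]

lemma isLCIMor_yon_map_iff {U V : Over S} (h : U ⟶ V) : IsLCIMor ((yon S).map h) ↔ LCIMor h.left := by
  refine ⟨fun H => KoszSpace.lciMor_chart H (a := 𝟙 _) (b := 𝟙 _) (h := h) (repWith_of_isIso _) (repWith_of_isIso _)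
      (by simp), fun H => KoszSpace.isLCIMor_of_chart (a := 𝟙 _) (b := 𝟙 _) (h := h) (repWith_of_isIso _)
      (repWith_of_isIso _) (repWith_of_isIso _) (by simp) H⟩

lemma isLCIMor_comp {X Y Z : Sp S} (hX : IsAlgSpace X) (hY : IsAlgSpace Y) (hZ : IsAlgSpace Z) {f : X ⟶ Y}
    {g : Y ⟶ Z} (hf : IsLCIMor f) (hg : IsLCIMor g) : IsLCIMor (f ≫ g) := by
  obtain ⟨V, W, b, c, k, hb, hbs, hc, -, e⟩ := exists_chart hY hZ g
  obtain ⟨U, a, h, ha, has, e'⟩ := exists_chart_over hX hY f b hb hbs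
  refine KoszSpace.isLCIMor_of_chart (h := h ≫ k) ha has hc
    (by rw [reassoc_of% e', e, Functor.map_comp, Category.assoc]) ?_
  rw [Over.comp_left]
  exact MorphismProperty.comp_mem LCIMor _ _ (KoszSpace.lciMor_chart hf ha hb e')
    (KoszSpace.lciMor_chart hg hb hc e)

lemma isLCIMor_of_smooth {X Y : Sp S} {f : X ⟶ Y} (hf : LocP @Smooth f) : IsLCIMor f := by
  rw [isLCIMor_eq]
  intro U V a b h ha hb e
  haveI : Smooth h.left := hf a b h ha hb e
  exact lciMor_of_smooth h.left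

theorem isSmoothLocalST_lci : IsSmoothLocalST (IsLCIMor : MorphismProperty (Sp S)) where
  precomp _ _ _ hX hY hZ _ _ hf hg := isLCIMor_comp hX hY hZ (isLCIMor_of_smooth hf) hg
  baseChange _ _ _ _ hX hY _ hY' _ _ _ _ sq hg hf :=
    KoszSpace.isLCIMor_of_isPullback hX hY hY' (locP_flat_of_smooth hg) sq hf
  locality X Y hX hY f := by
    refine ⟨fun hf x => ⟨X, Y, 𝟙 X, 𝟙 Y, f, x, hX, hY, AlgSpLib.locP_smooth_id X, AlgSpLib.locP_smooth_id Y,
      (Category.id_comp f).trans (Category.comp_id f).symm, Points.map_id x, hf⟩, fun H => ?_⟩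
    obtain ⟨U₀, p, hp, hps⟩ := hX.atlas
    choose U V a b h v hU hV ha hb e hv hPh using fun u : U₀.left => H (Points.ofPt p u)
    rw [isLCIMor_eq]
    refine locP_of_src_cover LCIMor @Smooth (fun π k hπ hs hh => ?_) hX hU a ha (fun x => ?_) fun u => ?_
    · haveI := hπ
      haveI := hs
      exact lciMor_of_syntomic_precomp π (TransLib.syntMor_of_smooth π) k hh
    · obtain ⟨u, rfl⟩ := surjective_ofPt hps x
      exact ⟨u, v u, hv u⟩
    · rw [e u, ← isLCIMor_eq]
      exact isLCIMor_comp (hU u) (hV u) hY (hPh u) (isLCIMor_of_smooth (hb u))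

/-- Cancellation of a smooth morphism on the target. -/
theorem locQ_lci_of_comp {𝒳 𝒴 𝒵 : AlgSt.Cat S} (h𝒳 : AlgSt.IsAlgStack Scheme.fppfPrecoverage 𝒳)
    (h𝒴 : AlgSt.IsAlgStack Scheme.fppfPrecoverage 𝒴) (h𝒵 : AlgSt.IsAlgStack Scheme.fppfPrecoverage 𝒵)
    (f : 𝒳 ⥤ᵇ 𝒴) (g : 𝒴 ⥤ᵇ 𝒵) (hfg : AlgSt.LocQ IsLCIMor (BasedFunctor.comp f g))
    (hg : AlgSt.LocQ (LocP @Smooth) g) : AlgSt.LocQ IsLCIMor f := by
  obtain ⟨W, z, hz, hzs⟩ := h𝒵.atlas
  obtain ⟨V, c, k, ⟨γ⟩, hc, -, hy, hys⟩ := exists_chartOver h𝒴 h𝒵 g z hz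
  obtain ⟨U, d, h, ⟨β⟩, hd, -, hx, hxs⟩ := exists_chartOver h𝒳 h𝒴 f _ hy
  refine ⟨U, V, _, _, h, fpSq d β, hx, hxs (hys hzs), hy, (isLCIMor_yon_map_iff h).2 ?_⟩
  haveI : Smooth k.left := locP_yon_map (prop_chartOver
    (isSmoothLocalST_locP @Smooth le_rfl fun π k hπ hs h => by
      haveI := hπ
      haveI := hs
      haveI : Smooth (π ≫ k) := h
      exact Groth.Agent.S0115.result π k) h𝒴 h𝒵 hg hz γ hc)
  have := (isLCIMor_yon_map_iff _).1 (prop_comp_chart isSmoothLocalST_lci h𝒳 h𝒴 h𝒵 hfg hz γ hc β hd)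
  rw [Over.comp_left] at this
  exact lciMor_of_comp_smooth h.left k.left this

end LciStLib
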